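import Mathlib
import Cfsg.Prelude.Def_OddOrderLocal

/-!
# Bender–Glauberman Lemma 9.5 (S1402): shared interface (helper9)

Setting: `G` minimal simple of odd order, `P` a Sylow `p`-subgroup, `A ∈ SCN_3(P)`, and we
assume `A` is NOT in a unique maximal subgroup (`hnU`), aiming at `False`.

A coatom `M ≥ A` is of *type B at `s`* if `¬ PRankLE s 2 (fittingOf M)` (then `s ≠ p` by S1401),
and of *type A* if `RankLE 2 (fittingOf M)`.

The packages (each is a theorem with exactly the statement of the corresponding `def` below,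
for all `G`; see note 1891, topic S1402, for the paper proof):

* `FrameStmt`   — step (1): a frame `W₁, W₂, H₁, H₂` for a type-B coatom.
* `FactsStmt`   — step (2): `A`-invariant `s`-subgroups and normalizers of `p`-overgroups of `A`
                  lie in a type-B coatom `M` (given `K ≤ M`).
* `KillerStmt`  — step (3): a type-A coatom over `A` containing `W` equals `M`.
* `LemmaSStmt`  — step (5): consequence of S1450.
* `BurnsideStmt`— step (7): `A ∩ N(A)' ≠ 1`.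
* `Case9Stmt`   — step (9): contradiction when no coatom over `A` is of type B.
-/

set_option autoImplicit false

namespace Cfsg.Agent.Lib.Helper9.BG95

open Cfsg

universe u

variable {G : Type u} [Group G] [Finite G]

/-- `K = O_{p'}(C_G(A))` in the form used by S1392–S1395. -/
def Kof (A : Subgroup G) : Subgroup G :=
  piCoreOf (primesNotDvd (Nat.card A)) (Subgroup.centralizer (A : Set G))

/-- Standing hypotheses: `A ∈ SCN_3(P)`, `P` Sylow, `A` not in a unique maximal subgroup. -/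
structure Ctx (p : ℕ) (P : Sylow p G) (A : Subgroup G) : Prop where
  hG : IsMinSimpleOddOrder G
  hSCN : IsSCN (P : Subgroup G) A
  hA3 : ¬ PRankLE p 2 ↥A
  hnU : ¬ InUniqueMaximal A

/-- A frame of the coatom `M` for the prime `s`. -/
structure IsFrame (p : ℕ) (A M : Subgroup G) (s : ℕ) (W₁ W₂ H₁ H₂ : Subgroup G) : Prop where
  W₁_le : W₁ ≤ M
  W₂_le : W₂ ≤ M
  W₁_pg : IsPGroup s W₁
  W₂_pg : IsPGroup s W₂
  A_norm₁ : A ≤ Subgroup.normalizer (W₁ : Set G)
  A_norm₂ : A ≤ Subgroup.normalizer (W₂ : Set G)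
  comm₁ : W₁ ≤ ⁅W₁, A⁆
  comm₂ : W₂ ≤ ⁅W₂, A⁆
  cent₁ : Subgroup.centralizer (W₁ : Set G) ≤ M
  cent₂ : Subgroup.centralizer (W₂ : Set G) ≤ M
  uniq : InUniqueMaximal (W₁ ⊔ W₂)
  H₁_le : H₁ ≤ A
  H₂_le : H₂ ≤ A
  H₁_ea : IsElementaryAbelian p H₁
  H₂_ea : IsElementaryAbelian p H₂
  H₁_nc : ¬ IsCyclic H₁
  H₂_nc : ¬ IsCyclic H₂
  H₁_cent : H₁ ≤ Subgroup.centralizer (W₁ : Set G)
  H₂_cent : H₂ ≤ Subgroup.centralizer (W₂ : Set G)
  good : ∃ b ∈ H₁ ⊓ H₂, b ≠ 1

/-- Package FRAME (step (1)). -/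
def FrameStmt (G : Type u) [Group G] [Finite G] : Prop :=
  ∀ (p : ℕ) [Fact p.Prime] (P : Sylow p G) (A : Subgroup G), Ctx p P A →
    ∀ (M : Subgroup G), IsCoatom M → A ≤ M → ∀ (s : ℕ) [Fact s.Prime], s ≠ p →
      ¬ PRankLE s 2 ↥(fittingOf M) →
      ∃ W₁ W₂ H₁ H₂ : Subgroup G, IsFrame p A M s W₁ W₂ H₁ H₂

/-- Package FACTS (step (2)). -/
def FactsStmt (G : Type u) [Group G] [Finite G] : Prop :=
  ∀ (p : ℕ) [Fact p.Prime] (P : Sylow p G) (A : Subgroup G), Ctx p P A →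
    ∀ (M : Subgroup G), IsCoatom M → A ≤ M → ∀ (s : ℕ) [Fact s.Prime], s ≠ p →
      ¬ PRankLE s 2 ↥(fittingOf M) → Kof A ≤ M →
      (∀ Y : Subgroup G, IsPGroup s Y → A ≤ Subgroup.normalizer (Y : Set G) → Y ≤ M) ∧
      (∀ T : Subgroup G, IsPGroup p T → A ≤ T → Subgroup.normalizer (T : Set G) ≤ M)

/-- Package KILLER (step (3)): `hs` and `hT` are the two conclusions of `FactsStmt` for `M`. -/
def KillerStmt (G : Type u) [Group G] [Finite G] : Prop :=
  ∀ (p : ℕ) [Fact p.Prime] (P : Sylow p G) (A : Subgroup G), Ctx p P A →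
    ∀ (M : Subgroup G), IsCoatom M → A ≤ M → ∀ (s : ℕ) [Fact s.Prime], s ≠ p →
      (∀ Y : Subgroup G, IsPGroup s Y → A ≤ Subgroup.normalizer (Y : Set G) → Y ≤ M) →
      (∀ T : Subgroup G, IsPGroup p T → A ≤ T → Subgroup.normalizer (T : Set G) ≤ M) →
      ∀ (W : Subgroup G), IsPGroup s W → W ≤ ⁅W, A⁆ →
        Subgroup.centralizer (W : Set G) ≤ M →
        ∀ (X : Subgroup G), IsCoatom X → A ≤ X → W ≤ X → RankLE 2 ↥(fittingOf X) → X = M

/-- Package LEMMA-S (step (5)): in a proper subgroup `X` of `s`-rank at most 2, a `p`-element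
(`p ≠ s`) of the derived subgroup centralizes every `s`-subgroup of `X` that it normalizes. -/
def LemmaSStmt (G : Type u) [Group G] [Finite G] : Prop :=
  IsMinSimpleOddOrder G → ∀ (X : Subgroup G), X ≠ ⊤ → ∀ (s : ℕ) [Fact s.Prime],
    PRankLE s 2 ↥X → ∀ (p : ℕ) [Fact p.Prime], p ≠ s → ∀ (a : G), a ∈ ⁅X, X⁆ →
      IsPGroup p (Subgroup.zpowers a) → ∀ (W : Subgroup G), W ≤ X → IsPGroup s W →
        a ∈ Subgroup.normalizer (W : Set G) → a ∈ Subgroup.centralizer (W : Set G)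

/-- Package BURNSIDE (step (7)). -/
def BurnsideStmt (G : Type u) [Group G] [Finite G] : Prop :=
  IsMinSimpleOddOrder G → ∀ (p : ℕ) [Fact p.Prime] (P : Sylow p G) (A : Subgroup G),
    IsSCN (P : Subgroup G) A → A ≠ ⊥ →
    ∃ a ∈ A ⊓ ⁅Subgroup.normalizer (A : Set G), Subgroup.normalizer (A : Set G)⁆, a ≠ 1

/-- Package CASE-9 (step (9)): contradiction if every coatom over `A` is of type A. -/
def Case9Stmt (G : Type u) [Group G] [Finite G] : Prop :=
  ∀ (p : ℕ) [Fact p.Prime] (P : Sylow p G) (A : Subgroup G), Ctx p P A →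
    (∀ H : Subgroup G, IsCoatom H → A ≤ H → RankLE 2 ↥(fittingOf H)) → False

end Cfsg.Agent.Lib.Helper9.BG95
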